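import Groth.Agent.CohDer1.BcDual.Triv
import Groth.Agent.DCat.DTenBCTor
import Groth.Agent.DCat.TrivBCTor

/-! The base change map of trivial duality is invertible iff an evaluation map is. -/

set_option autoImplicit false
set_option backward.isDefEq.respectTransparency false
set_option backward.defeqAttrib.useBackward true
set_option linter.style.haveILetI false

universe u

open CategoryTheory CategoryTheory.Limits MonoidalCategory HomologicalComplex

attribute [local instance] HasDerivedCategory.standard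

namespace Groth.Agent.CohDer1.BcDual

open Groth.Agent.DCat

section General

variable {R A R' A' : Type u} [CommRing R] [CommRing A] [CommRing R'] [CommRing A']
  {φ : R →+* A} {ρ : R →+* R'} {α : A →+* A'} {φ' : R' →+* A'}
  [DRing.HasLBaseChange ρ] [DRing.HasLBaseChange α]
  (adjρ : DRing.LBaseChange ρ ⊣ DRing.restrictD ρ) (adjα : DRing.LBaseChange α ⊣ DRing.restrictD α)
  (h : α.comp φ = φ'.comp ρ)
  {Rφ : Dual.D R ⥤ Dual.D A} (adj : DRing.restrictD φ ⊣ Rφ)
  {Rφ' : Dual.D R' ⥤ Dual.D A'} (adj' : DRing.restrictD φ' ⊣ Rφ') (K : Dual.D R)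

lemma cm_eq [DTen.HasLBase ρ] (Z : Dual.D A) :
    cm h adjα Z = ((DTen.baseAdj ρ).leftAdjointUniq adjρ).hom.app _ ≫ TrivBC.cmp adjρ adjα h Z := by
  rw [cm, Equiv.symm_apply_eq, Adjunction.homEquiv_unit, Functor.map_comp, ← Category.assoc]
  erw [Adjunction.unit_leftAdjointUniq_hom_app]
  rw [TrivBC.cmp, ← Adjunction.homEquiv_unit, Equiv.apply_symm_apply]

/-- The base change map against base change of the internal hom. -/
theorem isIso_bcMap_iff_bc [DTen.HasLTen R] [DTen.HasLTen R'] [DTen.HasRHom R] [DTen.HasRHom R'] [DTen.HasLBase ρ]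
    [DTen.HasResTen ρ] [DTen.ResLegIso ρ] (hall : ∀ Z, IsIso (TrivBC.cmp adjρ adjα h Z))
    (hc : IsIso (TrivBC.cmp adjρ adjα h (Rφ.obj K))) :
    IsIso (TrivBC.bcMap adjρ adjα h adj adj' K hc) ↔ IsIso (DTenBC.bc ρ (Y φ) K) := by
  haveI : DTen.HasLTen A := hasLTen A
  haveI : DTen.HasLTen A' := hasLTen A'
  haveI := Dual6Lib.BCDual.hasLBase φ
  haveI := Dual6Lib.BCDual.hasLBase φ'
  haveI := Dual6Lib.BCDual.hasResTen φ
  haveI := Dual6Lib.BCDual.resLegIso φ
  haveI := Dual6Lib.BCDual.hasResTen φ'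
  haveI := Dual6Lib.BCDual.resLegIso φ'
  let a := (DTen.baseAdj ρ).leftAdjointUniq adjρ
  haveI hcm : ∀ Z, IsIso (cm h adjα Z) := fun Z => by
    haveI := hall Z
    rw [cm_eq adjρ adjα h Z]
    infer_instance
  haveI := hc
  have hb : TrivBC.bcMap adjρ adjα h adj adj' K hc ≫ Rφ'.map (a.inv.app K) = bM h adjα adj adj' K := by
    rw [TrivBC.bcMap, bM, ← Adjunction.homEquiv_naturality_right]
    congr 1
    rw [IsIso.eq_inv_comp, cm_eq adjρ adjα h]
    simp only [Category.assoc, IsIso.hom_inv_id_assoc]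
    rw [← Category.assoc ((DTen.baseAdj ρ).leftAdjointUniq adjρ |>.hom.app _), ← a.hom.naturality, Category.assoc]
    erw [Iso.hom_inv_id_app, Category.comp_id]
  haveI := isIso_eR φ adj K
  haveI := isIso_eR φ' adj' ((DTen.LBase ρ).obj K)
  haveI := isIso_u α adjα
  haveI hX : IsIso (cX h adjα) :=
    @IsIso.comp_isIso _ _ _ _ _ _ _ (hcm (DTen.unit A)) (Functor.map_isIso (DRing.restrictD φ') _)
  haveI : IsIso (DTen.RHomMap (cX h adjα) ((DTen.LBase ρ).obj K)) :=
    inferInstanceAs (IsIso (((DTen.RHom R').map (cX h adjα).op).app ((DTen.LBase ρ).obj K)))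
  constructor
  · intro hi
    haveI : IsIso (bM h adjα adj adj' K) := by rw [← hb]; infer_instance
    haveI : IsIso ((DTen.LBase ρ).map (eR φ adj K) ≫ DTenBC.bc ρ (Y φ) K) := by
      rw [← bM_bc h adjα adj adj' K]; infer_instance
    exact IsIso.of_isIso_comp_left ((DTen.LBase ρ).map (eR φ adj K)) _
  · intro hi
    haveI : IsIso (cm h adjα (Rφ.obj K) ≫ (DRing.restrictD φ').map (bM h adjα adj adj' K) ≫
        eR φ' adj' ((DTen.LBase ρ).obj K) ≫ DTen.RHomMap (cX h adjα) ((DTen.LBase ρ).obj K)) := by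
      rw [bM_bc h adjα adj adj' K]; infer_instance
    haveI : IsIso ((DRing.restrictD φ').map (bM h adjα adj adj' K) ≫
        eR φ' adj' ((DTen.LBase ρ).obj K) ≫ DTen.RHomMap (cX h adjα) ((DTen.LBase ρ).obj K)) :=
      IsIso.of_isIso_comp_left (cm h adjα (Rφ.obj K)) _
    haveI : IsIso ((DRing.restrictD φ').map (bM h adjα adj adj' K)) :=
      IsIso.of_isIso_comp_right _ (eR φ' adj' ((DTen.LBase ρ).obj K) ≫ DTen.RHomMap (cX h adjα) ((DTen.LBase ρ).obj K))
    haveI : IsIso (bM h adjα adj adj' K) := DualLib.Omega.isIso_of_restrictD (φ := φ') _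
    haveI : IsIso (TrivBC.bcMap adjρ adjα h adj adj' K hc ≫ Rφ'.map (a.inv.app K)) := by rw [hb]; infer_instance
    exact IsIso.of_isIso_comp_right _ (Rφ'.map (a.inv.app K))

end General

section Algebra

variable (R A R' A' : Type u) [CommRing R] [CommRing A] [CommRing R'] [CommRing A']
  [Algebra R A] [Algebra R R'] [Algebra A A'] [Algebra R' A'] [Algebra R A'] [IsScalarTower R A A'] [IsScalarTower R R' A']
  [Algebra.IsPushout R A R' A']

/-- The comparison map is invertible for tor independent squares. -/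
theorem isIso_cmp (htor : ∀ p : ℕ, 1 ≤ p → Subsingleton (DRing.Tor R p A R'))
    [DRing.HasLBaseChange (algebraMap R R')] [DRing.HasLBaseChange (algebraMap A A')]
    (adjρ : DRing.LBaseChange (algebraMap R R') ⊣ DRing.restrictD (algebraMap R R'))
    (adjα : DRing.LBaseChange (algebraMap A A') ⊣ DRing.restrictD (algebraMap A A'))
    (h : (algebraMap A A').comp (algebraMap R A) = (algebraMap R' A').comp (algebraMap R R')) (Z : Dual.D A) :
    IsIso (TrivBC.cmp adjρ adjα h Z) :=
  DCat.TrivBCTor.isIso_bc_algebra R A R' A' htor adjρ adjα (TrivBC.resComm h) Z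

end Algebra

theorem isPseudoCoherent_Y (R A : Type u) [CommRing R] [CommRing A] [Algebra R A]
    (h : DRing.IsPseudoCoherentModule' R A) : DRing.IsPseudoCoherent' R (Y (algebraMap R A)) := by
  obtain ⟨E, b, hv, hp, ⟨e⟩⟩ := h
  exact ⟨E, b, hv, hp, ⟨e ≪≫ (YIso R A).symm⟩⟩

end Groth.Agent.CohDer1.BcDual
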