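import Groth.Agent.DCat.DTenBC
import Groth.Agent.S7016

/-! Complex level maps for the base change map of trivial duality. -/

set_option autoImplicit false
set_option backward.isDefEq.respectTransparency false
set_option backward.defeqAttrib.useBackward true
set_option linter.style.haveILetI false

universe u

open CategoryTheory CategoryTheory.Limits MonoidalCategory HomologicalComplex

attribute [local instance] HasDerivedCategory.standard

namespace Groth.Agent.CohDer1.BcDual

open Groth.Agent.DCat Groth.Agent.S7016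

variable {R R' : Type u} [CommRing R] [CommRing R'] (φ : R →+* R')

/-- The algebra as a complex of modules over the base. -/
noncomputable abbrev S : DRing.Cx R := (DTen.resCx φ).obj (𝟙_ (DRing.Cx R'))

/-- The scalar attached to a degree zero element. -/
noncomputable def scS (v : ((S φ).X 0 : ModuleCat.{u} R)) : R' := sc (R := R') v

/-- Left multiplication. -/
noncomputable def μL (V : DRing.Cx R') : S φ ⊗ (DTen.resCx φ).obj V ⟶ (DTen.resCx φ).obj V :=
  DTen.resTenCx φ (𝟙_ (DRing.Cx R')) V ≫ (DTen.resCx φ).map (λ_ V).hom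

/-- Right multiplication. -/
noncomputable def μR (V : DRing.Cx R') : (DTen.resCx φ).obj V ⊗ S φ ⟶ (DTen.resCx φ).obj V :=
  DTen.resTenCx φ V (𝟙_ (DRing.Cx R')) ≫ (DTen.resCx φ).map (ρ_ V).hom

lemma resTenCx_apply (Y Y' : DRing.Cx R') (p q n : ℤ) (h : p + q = n) (a : Y.X p) (b : Y'.X q) :
    ((DTen.resTenCx φ Y Y').f n).hom ((ιTensorObj ((DTen.resCx φ).obj Y) ((DTen.resCx φ).obj Y') p q n h).hom
        ((show ((DTen.resCx φ).obj Y).X p from a) ⊗ₜ[R] (show ((DTen.resCx φ).obj Y').X q from b))) =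
      (show ((DTen.resCx φ).obj (Y ⊗ Y')).X n from
        (ιTensorObj Y Y' p q n h).hom (a ⊗ₜ[R'] b)) :=
  congr($(DTen.ι_resTenCx φ Y Y' p q n h) (a ⊗ₜ[R] b))

lemma μL_apply (V : DRing.Cx R') (n : ℤ) (v : ((S φ).X 0 : ModuleCat.{u} R)) (x : V.X n) :
    ((μL φ V).f n).hom ((ιTensorObj (S φ) ((DTen.resCx φ).obj V) 0 n n (zero_add n)).hom
        (v ⊗ₜ[R] (show ((DTen.resCx φ).obj V).X n from x))) =
      (show ((DTen.resCx φ).obj V).X n from (scS φ v • x : V.X n)) :=
  (congrArg (fun z => (((DTen.resCx φ).map (λ_ V).hom).f n).hom z)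
    (resTenCx_apply φ (𝟙_ (DRing.Cx R')) V 0 n n (zero_add n) v x)).trans
    ((left_tmul V n n 0 (zero_add n) x v).2 rfl)

lemma μR_apply (V : DRing.Cx R') (n : ℤ) (x : V.X n) (v : ((S φ).X 0 : ModuleCat.{u} R)) :
    ((μR φ V).f n).hom ((ιTensorObj ((DTen.resCx φ).obj V) (S φ) n 0 n (add_zero n)).hom
        ((show ((DTen.resCx φ).obj V).X n from x) ⊗ₜ[R] v)) =
      (show ((DTen.resCx φ).obj V).X n from (scS φ v • x : V.X n)) :=
  (congrArg (fun z => (((DTen.resCx φ).map (ρ_ V).hom).f n).hom z)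
    (resTenCx_apply φ V (𝟙_ (DRing.Cx R')) n 0 n (add_zero n) x v)).trans
    ((right_tmul V n n 0 (add_zero n) x v).2 rfl)

/-- `R' ⊗ P ⟶ ext P`. -/
noncomputable def mL (P : DRing.Cx R) : S φ ⊗ P ⟶ (DTen.resCx φ).obj ((DTen.extCx φ).obj P) :=
  S φ ◁ (DTen.unitCx φ).app P ≫ μL φ ((DTen.extCx φ).obj P)

/-- `P ⊗ R' ⟶ ext P`. -/
noncomputable def mR (P : DRing.Cx R) : P ⊗ S φ ⟶ (DTen.resCx φ).obj ((DTen.extCx φ).obj P) :=
  (DTen.unitCx φ).app P ▷ S φ ≫ μR φ ((DTen.extCx φ).obj P)

/-- The element `1 ⊗ x`. -/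
noncomputable def oneT (M : ModuleCat.{u} R) (x : M) : (ModuleCat.extendScalars.{u, u, u} φ).obj M :=
  ((ModuleCat.extendRestrictScalarsAdj.{u, u, u} φ).unit.app M).hom x

lemma mL_apply (P : DRing.Cx R) (n : ℤ) (v : ((S φ).X 0 : ModuleCat.{u} R)) (x : P.X n) :
    ((mL φ P).f n).hom ((ιTensorObj (S φ) P 0 n n (zero_add n)).hom (v ⊗ₜ[R] x)) =
      (show ((DTen.resCx φ).obj ((DTen.extCx φ).obj P)).X n from
        (scS φ v • oneT φ (P.X n) x : (ModuleCat.extendScalars.{u, u, u} φ).obj (P.X n))) :=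
  (congrArg (fun z => ((μL φ ((DTen.extCx φ).obj P)).f n).hom z)
    (whiskerLeft_apply (S φ) ((DTen.unitCx φ).app P) 0 n n (zero_add n) v x)).trans (μL_apply φ _ n v _)

lemma mR_apply (P : DRing.Cx R) (n : ℤ) (x : P.X n) (v : ((S φ).X 0 : ModuleCat.{u} R)) :
    ((mR φ P).f n).hom ((ιTensorObj P (S φ) n 0 n (add_zero n)).hom (x ⊗ₜ[R] v)) =
      (show ((DTen.resCx φ).obj ((DTen.extCx φ).obj P)).X n from
        (scS φ v • oneT φ (P.X n) x : (ModuleCat.extendScalars.{u, u, u} φ).obj (P.X n))) :=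
  (congrArg (fun z => ((μR φ ((DTen.extCx φ).obj P)).f n).hom z)
    (whiskerRight_apply ((DTen.unitCx φ).app P) (S φ) n 0 n (add_zero n) x v)).trans (μR_apply φ _ n _ v)

lemma isZero_S (p : ℤ) (hp : p ≠ 0) : IsZero ((S φ).X p) :=
  (ModuleCat.restrictScalars.{u} φ).map_isZero (isZero_single_obj_X _ _ _ _ hp)

lemma scS_bijective : Function.Bijective (scS φ) :=
  (singleObjXSelf (ComplexShape.up ℤ) 0 (𝟙_ (ModuleCat.{u} R'))).toLinearEquiv.bijective

lemma scS_smul (r : R) (v : ((S φ).X 0 : ModuleCat.{u} R)) : scS φ (r • v) = φ r * scS φ v :=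
  sc_smul (R := R') (φ r) v

/-- The degree zero term is the algebra. -/
noncomputable def sEquiv : letI := φ.toAlgebra; ((S φ).X 0 : ModuleCat.{u} R) ≃ₗ[R] R' :=
  letI := φ.toAlgebra
  LinearEquiv.ofBijective
    { toFun := scS φ
      map_add' := fun x y => map_add (singleObjXSelf (ComplexShape.up ℤ) 0 (𝟙_ (ModuleCat.{u} R'))).hom.hom x y
      map_smul' := fun r v => scS_smul φ r v } (scS_bijective φ)

lemma scS_smul_unit (M : ModuleCat.{u} R) (v : ((S φ).X 0 : ModuleCat.{u} R)) (x : M) :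
    letI := φ.toAlgebra
    (scS φ v • oneT φ M x :
        (ModuleCat.extendScalars.{u, u, u} φ).obj M) =
      (show (ModuleCat.extendScalars.{u, u, u} φ).obj M from (sEquiv φ v ⊗ₜ[R] x : TensorProduct R R' M)) := by
  letI := φ.toAlgebra
  change scS φ v • ((1 : R') ⊗ₜ[R] x : TensorProduct R R' M) = scS φ v ⊗ₜ[R] x
  rw [TensorProduct.smul_tmul', smul_eq_mul, mul_one]

/-- The left multiplication map is invertible. -/
theorem isIso_mL (P : DRing.Cx R) : IsIso (mL φ P) := by
  haveI : ∀ n, IsIso ((mL φ P).f n) := fun n => by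
    letI := φ.toAlgebra
    let j := ιTensorObj (S φ) P 0 n n (zero_add n)
    haveI : Epi j := ⟨fun {Z} a b hab => mapBifunctor.hom_ext fun p q h => by
      by_cases hp : p = 0
      · subst hp
        obtain rfl : q = n := by simpa using h
        exact hab
      · exact ((curriedTensor (ModuleCat.{u} R)).map_isZero (isZero_S φ p hp)).obj _ |>.eq_of_src _ _⟩
    let e := TensorProduct.congr (sEquiv φ) (LinearEquiv.refl R (P.X n))
    have hbij : Function.Bijective (j ≫ (mL φ P).f n).hom := by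
      have : ((j ≫ (mL φ P).f n).hom : _ → _) = fun z => e z := by
        funext z
        induction z using TensorProduct.induction_on with
        | zero => exact (map_zero _).trans (map_zero e).symm
        | tmul v x => exact (mL_apply φ P n v x).trans (scS_smul_unit φ (P.X n) v x)
        | add a b ha hb => exact (map_add _ a b).trans ((congrArg₂ (· + ·) ha hb).trans (map_add e a b).symm)
      rw [this]
      exact e.bijective
    haveI : IsIso (j ≫ (mL φ P).f n) := (ConcreteCategory.isIso_iff_bijective _).2 hbij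
    haveI : Mono j := mono_of_mono j ((mL φ P).f n)
    haveI : IsIso j := isIso_of_mono_of_epi j
    exact IsIso.of_isIso_comp_left j _
  exact HomologicalComplex.Hom.isIso_of_components _

/-- The right multiplication map is invertible. -/
theorem isIso_mR (P : DRing.Cx R) : IsIso (mR φ P) := by
  haveI : ∀ n, IsIso ((mR φ P).f n) := fun n => by
    letI := φ.toAlgebra
    let j := ιTensorObj P (S φ) n 0 n (add_zero n)
    haveI : Epi j := ⟨fun {Z} a b hab => mapBifunctor.hom_ext fun p q h => by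
      by_cases hq : q = 0
      · subst hq
        obtain rfl : p = n := by simpa using h
        exact hab
      · exact (((curriedTensor (ModuleCat.{u} R)).obj (P.X p)).map_isZero (isZero_S φ q hq)).eq_of_src _ _⟩
    let e := (TensorProduct.comm R (P.X n) ((S φ).X 0)).trans (TensorProduct.congr (sEquiv φ) (LinearEquiv.refl R (P.X n)))
    have hbij : Function.Bijective (j ≫ (mR φ P).f n).hom := by
      have : ((j ≫ (mR φ P).f n).hom : _ → _) = fun z => e z := by
        funext z
        induction z using TensorProduct.induction_on with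
        | zero => exact (map_zero _).trans (map_zero e).symm
        | tmul x v => exact (mR_apply φ P n x v).trans (scS_smul_unit φ (P.X n) v x)
        | add a b ha hb => exact (map_add _ a b).trans ((congrArg₂ (· + ·) ha hb).trans (map_add e a b).symm)
      rw [this]
      exact e.bijective
    haveI : IsIso (j ≫ (mR φ P).f n) := (ConcreteCategory.isIso_iff_bijective _).2 hbij
    haveI : Mono j := mono_of_mono j ((mR φ P).f n)
    haveI : IsIso j := isIso_of_mono_of_epi j
    exact IsIso.of_isIso_comp_left j _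
  exact HomologicalComplex.Hom.isIso_of_components _

lemma extTensor_tmul (P L : DRing.Cx R) (p q n : ℤ) (h : p + q = n) (r : R') (x : P.X p) (y : L.X q) :
    letI := φ.toAlgebra
    ((DTenBC.extTensor φ P L).hom.f n).hom
        (show ((DTen.extCx φ).obj (P ⊗ L)).X n from (r ⊗ₜ[R] (ιTensorObj P L p q n h).hom (x ⊗ₜ[R] y))) =
      (ιTensorObj ((DTen.extCx φ).obj P) ((DTen.extCx φ).obj L) p q n h).hom
        ((show ((DTen.extCx φ).obj P).X p from r ⊗ₜ[R] x) ⊗ₜ[R']
          (show ((DTen.extCx φ).obj L).X q from (1 : R') ⊗ₜ[R] y)) := by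
  letI := φ.toAlgebra
  exact congr($(DTenBC.ι_extTensor φ P L p q n h)
    (show (ModuleCat.extendScalars.{u, u, u} φ).obj (P.X p ⊗ L.X q) from r ⊗ₜ[R] (x ⊗ₜ[R] y)))

/-- Left multiplication is associative. -/
theorem assoc_mL (P L : DRing.Cx R) :
    (α_ (S φ) P L).hom ≫ mL φ (P ⊗ L) ≫ (DTen.resCx φ).map (DTenBC.extTensor φ P L).hom =
      (mL φ P ▷ L ≫ _ ◁ (DTen.unitCx φ).app L) ≫
        DTen.resTenCx φ ((DTen.extCx φ).obj P) ((DTen.extCx φ).obj L) := by
  letI := φ.toAlgebra
  refine HomologicalComplex.hom_ext _ _ fun n => mapBifunctor₁₂.hom_ext fun p q r h => ?_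
  have hn : p + q + r = n := h
  by_cases hp : p = 0
  swap
  · exact ((((curriedTensor (ModuleCat.{u} R)).map_isZero
      (((curriedTensor (ModuleCat.{u} R)).map_isZero (isZero_S φ p hp)).obj (P.X q))).obj (L.X r))).eq_of_src _ _
  subst hp
  have hn' : q + r = n := by omega
  rw [mapBifunctor₁₂.ι_eq _ _ _ _ _ _ _ 0 q r q n (zero_add q) hn']
  refine ModuleCat.MonoidalCategory.tensor_ext₃' fun v x y => ?_
  simp only [HomologicalComplex.comp_f, ModuleCat.comp_apply]
  erw [associator_hom_apply (S φ) P L 0 q r q n n (zero_add q) hn' hn' (zero_add n) v x y]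
  erw [mL_apply φ (P ⊗ L) n v ((ιTensorObj P L q r n hn').hom (x ⊗ₜ[R] y))]
  erw [whiskerRight_apply (mL φ P) L q r n hn' ((ιTensorObj (S φ) P 0 q q (zero_add q)).hom (v ⊗ₜ[R] x)) y]
  erw [whiskerLeft_apply ((DTen.resCx φ).obj ((DTen.extCx φ).obj P)) ((DTen.unitCx φ).app L) q r n hn'
    (((mL φ P).f q).hom ((ιTensorObj (S φ) P 0 q q (zero_add q)).hom (v ⊗ₜ[R] x))) y]
  erw [resTenCx_apply φ ((DTen.extCx φ).obj P) ((DTen.extCx φ).obj L) q r n hn', mL_apply φ P q v x]
  refine (congrArg (fun z => ((DTenBC.extTensor φ P L).hom.f n).hom z)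
    (scS_smul_unit φ ((P ⊗ L).X n) v ((ιTensorObj P L q r n hn').hom (x ⊗ₜ[R] y)))).trans ?_
  refine (extTensor_tmul φ P L q r n hn' _ x y).trans ?_
  exact congrArg (fun z => (ιTensorObj ((DTen.extCx φ).obj P) ((DTen.extCx φ).obj L) q r n hn').hom (z ⊗ₜ[R'] _))
    (scS_smul_unit φ (P.X q) v x).symm

end Groth.Agent.CohDer1.BcDual
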