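import Groth.Agent.CohDer1.BcDual.Cx
import Groth.Agent.Dual6Lib.BCDual.Binders

/-! The action maps of restriction of scalars on derived categories. -/

set_option autoImplicit false
set_option backward.isDefEq.respectTransparency false
set_option backward.defeqAttrib.useBackward true
set_option linter.style.haveILetI false

universe u

open CategoryTheory CategoryTheory.Limits MonoidalCategory HomologicalComplex

attribute [local instance] HasDerivedCategory.standard

namespace Groth.Agent.CohDer1.BcDual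

open Groth.Agent.DCat

variable {R R' : Type u} [CommRing R] [CommRing R'] (φ : R →+* R')

lemma L2_comp [DTen.HasLTen R] {a b c a' b' c' : Dual.D R} (f : a ⟶ b) (g : b ⟶ c) (f' : a' ⟶ b') (g' : b' ⟶ c') :
    (DTen.LTen₂ R).map (Prod.mkHom f f') ≫ (DTen.LTen₂ R).map (Prod.mkHom g g') =
      (DTen.LTen₂ R).map (Prod.mkHom (f ≫ g) (f' ≫ g')) :=
  ((DTen.LTen₂ R).map_comp (X := (a, a')) (Y := (b, b')) (Z := (c, c')) (Prod.mkHom f f') (Prod.mkHom g g')).symm

lemma resPF_natural [DTen.HasLTen R] [DTen.HasLTen R'] [DTen.HasResTen φ] [DTen.ResLegIso φ] {a b a' b' : Dual.D R'}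
    (f : a ⟶ b) (f' : a' ⟶ b') :
    (DTen.LTen₂ R).map (Prod.mkHom ((DRing.restrictD φ).map f) ((DRing.restrictD φ).map f')) ≫
        (DTen.resPF φ).app (b, b') =
      (DTen.resPF φ).app (a, a') ≫ (DRing.restrictD φ).map ((DTen.LTen₂ R').map (Prod.mkHom f f')) :=
  (DTen.resPF φ).naturality ((Prod.mkHom f f') : (a, a') ⟶ (b, b'))

lemma ε_natural [DTen.HasLTen R] {K L K' L' : DRing.Cx R} (f : K ⟶ K') (g : L ⟶ L') :
    (DTen.LTen₂ R).map (Prod.mkHom (DerivedCategory.Q.map f) (DerivedCategory.Q.map g)) ≫ (DTen.ε R).app (K', L') =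
      (DTen.ε R).app (K, L) ≫ DerivedCategory.Q.map (f ▷ L ≫ K' ◁ g) :=
  (DTen.ε R).naturality ((Prod.mkHom f g) : (K, L) ⟶ (K', L'))

lemma ε_natural_left [DTen.HasLTen R] {K K' : DRing.Cx R} (f : K ⟶ K') (L : DRing.Cx R) :
    (DTen.LTen₂ R).map (Prod.mkHom (DerivedCategory.Q.map f) (𝟙 (DerivedCategory.Q.obj L))) ≫ (DTen.ε R).app (K', L) =
      (DTen.ε R).app (K, L) ≫ DerivedCategory.Q.map (f ▷ L) := by
  have h := ε_natural f (𝟙 L)
  simp only [MonoidalCategory.whiskerLeft_id, Category.comp_id, CategoryTheory.Functor.map_id] at h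
  exact h

lemma ε_natural_right [DTen.HasLTen R] (K : DRing.Cx R) {L L' : DRing.Cx R} (g : L ⟶ L') :
    (DTen.LTen₂ R).map (Prod.mkHom (𝟙 (DerivedCategory.Q.obj K)) (DerivedCategory.Q.map g)) ≫ (DTen.ε R).app (K, L') =
      (DTen.ε R).app (K, L) ≫ DerivedCategory.Q.map (K ◁ g) := by
  have h := ε_natural (𝟙 K) g
  simp only [MonoidalCategory.id_whiskerRight, CategoryTheory.Functor.map_id] at h
  rw [show 𝟙 (K ⊗ L) ≫ K ◁ g = K ◁ g from Category.id_comp _] at h
  exact h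

/-- The algebra as an object of the derived category of the base. -/
noncomputable abbrev Y : Dual.D R := (DRing.restrictD φ).obj (DTen.unit R')

/-- `Y ≅ Q S`. -/
noncomputable abbrev rS : Y φ ⟶ DerivedCategory.Q.obj (S φ) := (DTen.resFactors φ).hom.app (𝟙_ (DRing.Cx R'))

/-- The unit followed by base change on complexes. -/
lemma unit_baseCmp [DTen.HasLBase φ] (P : DRing.Cx R) :
    (DTen.baseAdj φ).unit.app (DerivedCategory.Q.obj P) ≫ (DRing.restrictD φ).map ((DTen.baseCmp φ).app P) ≫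
        (DTen.resFactors φ).hom.app ((DTen.extCx φ).obj P) =
      DerivedCategory.Q.map ((DTen.unitCx φ).app P) := by
  rw [← Category.assoc]
  refine (congrArg (· ≫ _) (DTen.baseCmp_fac φ P)).trans ?_
  refine (Category.assoc _ _ _).trans ?_
  erw [Iso.inv_hom_id_app]
  exact Category.comp_id _

variable [DTen.HasLTen R] [DTen.HasLTen R'] [DTen.HasResTen φ] [DTen.ResLegIso φ]

/-- The left action `Y ⊗ res Z ⟶ res Z`. -/
noncomputable def lact (Z : Dual.D R') :
    (DTen.LTen₂ R).obj (Y φ, (DRing.restrictD φ).obj Z) ⟶ (DRing.restrictD φ).obj Z :=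
  (DTen.resPF φ).app (DTen.unit R', Z) ≫ (DRing.restrictD φ).map ((DTen.unitL R').app Z)

/-- The right action `res Z ⊗ Y ⟶ res Z`. -/
noncomputable def ract (Z : Dual.D R') :
    (DTen.LTen₂ R).obj ((DRing.restrictD φ).obj Z, Y φ) ⟶ (DRing.restrictD φ).obj Z :=
  (DTen.resPF φ).app (Z, DTen.unit R') ≫ (DRing.restrictD φ).map ((DTen.unitR R').app Z)

lemma lact_natural {Z Z' : Dual.D R'} (g : Z ⟶ Z') :
    (DTen.LTen₂ R).map (Prod.mkHom (𝟙 (Y φ)) ((DRing.restrictD φ).map g)) ≫ lact φ Z' =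
      lact φ Z ≫ (DRing.restrictD φ).map g := by
  have h := resPF_natural φ (𝟙 (DTen.unit R')) g
  rw [CategoryTheory.Functor.map_id] at h
  rw [lact, lact, ← Category.assoc]
  refine (congrArg (· ≫ _) h).trans ?_
  rw [Category.assoc, Category.assoc, ← Functor.map_comp, ← Functor.map_comp]
  exact congrArg (fun z => (DTen.resPF φ).app (DTen.unit R', Z) ≫ (DRing.restrictD φ).map z) ((DTen.unitL R').naturality g)

lemma ract_natural {Z Z' : Dual.D R'} (g : Z ⟶ Z') :
    (DTen.LTen₂ R).map (Prod.mkHom ((DRing.restrictD φ).map g) (𝟙 (Y φ))) ≫ ract φ Z' =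
      ract φ Z ≫ (DRing.restrictD φ).map g := by
  have h := resPF_natural φ g (𝟙 (DTen.unit R'))
  rw [CategoryTheory.Functor.map_id] at h
  rw [ract, ract, ← Category.assoc]
  refine (congrArg (· ≫ _) h).trans ?_
  rw [Category.assoc, Category.assoc, ← Functor.map_comp, ← Functor.map_comp]
  exact congrArg (fun z => (DTen.resPF φ).app (Z, DTen.unit R') ≫ (DRing.restrictD φ).map z) ((DTen.unitR R').naturality g)

/-- `resPF` on complexes. -/
lemma resPF_Q (V V' : DRing.Cx R') {W : DRing.Cx R'} (g : V ⊗ V' ⟶ W) :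
    (DTen.resPF φ).app (DerivedCategory.Q.obj V, DerivedCategory.Q.obj V') ≫
        (DRing.restrictD φ).map ((DTen.ε R').app (V, V') ≫ DerivedCategory.Q.map g) ≫ (DTen.resFactors φ).hom.app W =
      (DTen.LTen₂ R).map (Prod.mkHom ((DTen.resFactors φ).hom.app V) ((DTen.resFactors φ).hom.app V')) ≫
        (DTen.ε R).app ((DTen.resCx φ).obj V, (DTen.resCx φ).obj V') ≫
          DerivedCategory.Q.map (DTen.resTenCx φ V V' ≫ (DTen.resCx φ).map g) := by
  have h : (DTen.resPF φ).app (DerivedCategory.Q.obj V, DerivedCategory.Q.obj V') ≫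
      (DRing.restrictD φ).map ((DTen.ε R').app (V, V')) ≫ (DTen.resFactors φ).hom.app (V ⊗ V') =
      (DTen.LTen₂ R).map (Prod.mkHom ((DTen.resFactors φ).hom.app V) ((DTen.resFactors φ).hom.app V')) ≫
        (DTen.ε R).app ((DTen.resCx φ).obj V, (DTen.resCx φ).obj V') ≫
          DerivedCategory.Q.map (DTen.resTenCx φ V V') :=
    DTen.resPF_fac φ (V, V')
  have n := (DTen.resFactors φ).hom.naturality g
  dsimp only [Functor.comp_map] at n
  rw [Functor.map_comp, Functor.map_comp, Category.assoc]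
  erw [n, reassoc_of% h]

lemma lact_Q (V : DRing.Cx R') :
    lact φ (DerivedCategory.Q.obj V) ≫ (DTen.resFactors φ).hom.app V =
      (DTen.LTen₂ R).map (Prod.mkHom (rS φ) ((DTen.resFactors φ).hom.app V)) ≫
        (DTen.ε R).app (S φ, (DTen.resCx φ).obj V) ≫ DerivedCategory.Q.map (μL φ V) := by
  rw [lact, DTen.unitL_app, Category.assoc]
  exact resPF_Q φ (𝟙_ (DRing.Cx R')) V (λ_ V).hom

lemma ract_Q (V : DRing.Cx R') :
    ract φ (DerivedCategory.Q.obj V) ≫ (DTen.resFactors φ).hom.app V =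
      (DTen.LTen₂ R).map (Prod.mkHom ((DTen.resFactors φ).hom.app V) (rS φ)) ≫
        (DTen.ε R).app ((DTen.resCx φ).obj V, S φ) ≫ DerivedCategory.Q.map (μR φ V) := by
  rw [ract, DTen.unitR_app, Category.assoc]
  exact resPF_Q φ V (𝟙_ (DRing.Cx R')) (ρ_ V).hom

variable [DTen.HasLBase φ]

/-- `Y ⊗ K ⟶ res L K`. -/
noncomputable def pi (K : Dual.D R) :
    (DTen.LTen₂ R).obj (Y φ, K) ⟶ (DRing.restrictD φ).obj ((DTen.LBase φ).obj K) :=
  (DTen.LTen₂ R).map (Prod.mkHom (𝟙 (Y φ)) ((DTen.baseAdj φ).unit.app K)) ≫ lact φ ((DTen.LBase φ).obj K)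

/-- `K ⊗ Y ⟶ res L K`. -/
noncomputable def theta (K : Dual.D R) :
    (DTen.LTen₂ R).obj (K, Y φ) ⟶ (DRing.restrictD φ).obj ((DTen.LBase φ).obj K) :=
  (DTen.LTen₂ R).map (Prod.mkHom ((DTen.baseAdj φ).unit.app K) (𝟙 (Y φ))) ≫ ract φ ((DTen.LBase φ).obj K)

lemma pi_natural {K K' : Dual.D R} (f : K ⟶ K') :
    (DTen.LTen₂ R).map (Prod.mkHom (𝟙 (Y φ)) f) ≫ pi φ K' =
      pi φ K ≫ (DRing.restrictD φ).map ((DTen.LBase φ).map f) := by
  rw [pi, pi, Category.assoc, ← lact_natural, ← Category.assoc, ← Category.assoc, L2_comp, L2_comp]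
  simp [(DTen.baseAdj φ).unit.naturality f]

lemma theta_natural {K K' : Dual.D R} (f : K ⟶ K') :
    (DTen.LTen₂ R).map (Prod.mkHom f (𝟙 (Y φ))) ≫ theta φ K' =
      theta φ K ≫ (DRing.restrictD φ).map ((DTen.LBase φ).map f) := by
  rw [theta, theta, Category.assoc, ← ract_natural, ← Category.assoc, ← Category.assoc, L2_comp, L2_comp]
  simp [(DTen.baseAdj φ).unit.naturality f]

lemma pi_Q (P : DRing.Cx R) :
    pi φ (DerivedCategory.Q.obj P) ≫ (DRing.restrictD φ).map ((DTen.baseCmp φ).app P) ≫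
        (DTen.resFactors φ).hom.app ((DTen.extCx φ).obj P) =
      (DTen.LTen₂ R).map (Prod.mkHom (rS φ) (𝟙 (DerivedCategory.Q.obj P))) ≫ (DTen.ε R).app (S φ, P) ≫
        DerivedCategory.Q.map (mL φ P) := by
  rw [pi, Category.assoc]
  erw [← reassoc_of% (lact_natural φ ((DTen.baseCmp φ).app P))]
  erw [lact_Q φ ((DTen.extCx φ).obj P)]
  rw [← Category.assoc, ← Category.assoc, L2_comp, L2_comp]
  simp only [Category.id_comp, Category.assoc, unit_baseCmp φ P]
  rw [show Prod.mkHom (rS φ) (DerivedCategory.Q.map ((DTen.unitCx φ).app P)) =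
      Prod.mkHom (rS φ) (𝟙 (DerivedCategory.Q.obj P)) ≫
        Prod.mkHom (𝟙 (DerivedCategory.Q.obj (S φ))) (DerivedCategory.Q.map ((DTen.unitCx φ).app P)) from
    Prod.ext (Category.comp_id _).symm (Category.id_comp _).symm, Functor.map_comp, Category.assoc]
  erw [reassoc_of% (ε_natural_right (S φ) ((DTen.unitCx φ).app P)), ← Functor.map_comp]
  rfl

lemma theta_Q (P : DRing.Cx R) :
    theta φ (DerivedCategory.Q.obj P) ≫ (DRing.restrictD φ).map ((DTen.baseCmp φ).app P) ≫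
        (DTen.resFactors φ).hom.app ((DTen.extCx φ).obj P) =
      (DTen.LTen₂ R).map (Prod.mkHom (𝟙 (DerivedCategory.Q.obj P)) (rS φ)) ≫ (DTen.ε R).app (P, S φ) ≫
        DerivedCategory.Q.map (mR φ P) := by
  rw [theta, Category.assoc]
  erw [← reassoc_of% (ract_natural φ ((DTen.baseCmp φ).app P))]
  erw [ract_Q φ ((DTen.extCx φ).obj P)]
  rw [← Category.assoc, ← Category.assoc, L2_comp, L2_comp]
  simp only [Category.id_comp, Category.assoc, unit_baseCmp φ P]
  rw [show Prod.mkHom (DerivedCategory.Q.map ((DTen.unitCx φ).app P)) (rS φ) =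
      Prod.mkHom (𝟙 (DerivedCategory.Q.obj P)) (rS φ) ≫
        Prod.mkHom (DerivedCategory.Q.map ((DTen.unitCx φ).app P)) (𝟙 (DerivedCategory.Q.obj (S φ))) from
    Prod.ext (Category.id_comp _).symm (Category.comp_id _).symm, Functor.map_comp, Category.assoc]
  erw [reassoc_of% (ε_natural_left ((DTen.unitCx φ).app P) (S φ)), ← Functor.map_comp]
  rfl

/-- Base change is tensoring with the algebra. -/
theorem isIso_pi (K : Dual.D R) : IsIso (pi φ K) := by
  obtain ⟨P, hP, ⟨e⟩⟩ := exists_kflat_obj K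
  haveI := isIso_baseCmp φ hP
  haveI := isIso_ε_of_right (K := S φ) hP
  haveI := isIso_mL φ P
  haveI : IsIso ((DTen.LTen₂ R).map (Prod.mkHom (rS φ) (𝟙 (DerivedCategory.Q.obj P)))) := isIso_LTen_map _ _
  haveI : IsIso (pi φ (DerivedCategory.Q.obj P)) := IsIso.of_isIso_fac_right (pi_Q φ P)
  haveI : IsIso ((DTen.LTen₂ R).map (Prod.mkHom (𝟙 (Y φ)) e.hom)) := isIso_LTen_map _ _
  exact IsIso.of_isIso_fac_left (pi_natural φ e.hom)

/-- The mirrored statement. -/
theorem isIso_theta (K : Dual.D R) : IsIso (theta φ K) := by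
  obtain ⟨P, hP, ⟨e⟩⟩ := exists_kflat_obj K
  haveI := isIso_baseCmp φ hP
  haveI := isIso_ε_of_left (L := S φ) hP
  haveI := isIso_mR φ P
  haveI : IsIso ((DTen.LTen₂ R).map (Prod.mkHom (𝟙 (DerivedCategory.Q.obj P)) (rS φ))) := isIso_LTen_map _ _
  haveI : IsIso (theta φ (DerivedCategory.Q.obj P)) := IsIso.of_isIso_fac_right (theta_Q φ P)
  haveI : IsIso ((DTen.LTen₂ R).map (Prod.mkHom e.hom (𝟙 (Y φ)))) := isIso_LTen_map _ _
  exact IsIso.of_isIso_fac_left (theta_natural φ e.hom)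

end Groth.Agent.CohDer1.BcDual
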