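import Groth.Agent.CohDer1.BcDual.Pi
import Groth.Agent.DCat.DTenBCPerfect
import Groth.Agent.DualLib.OmegaRigid

/-! Base change of the internal hom against the evaluation map. -/

set_option autoImplicit false
set_option backward.isDefEq.respectTransparency false
set_option backward.defeqAttrib.useBackward true
set_option linter.style.haveILetI false

universe u

open CategoryTheory CategoryTheory.Limits MonoidalCategory HomologicalComplex

attribute [local instance] HasDerivedCategory.standard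

namespace Groth.Agent.CohDer1.BcDual

open Groth.Agent.DCat

variable {R R' : Type u} [CommRing R] [CommRing R'] (φ : R →+* R')
  [DTen.HasLTen R] [DTen.HasLTen₃ R] [DTen.IsSymMonoidal R]

/-- The associator on complexes. -/
lemma assoc_ε (K L M : DRing.Cx R) :
    (DTen.associator (DerivedCategory.Q.obj K) (DerivedCategory.Q.obj L) (DerivedCategory.Q.obj M)).hom ≫
        (DTen.LTen₂ R).map (Prod.mkHom (𝟙 (DerivedCategory.Q.obj K)) ((DTen.ε R).app (L, M))) ≫
          (DTen.ε R).app (K, L ⊗ M) =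
      (DTen.LTen₂ R).map (Prod.mkHom ((DTen.ε R).app (K, L)) (𝟙 (DerivedCategory.Q.obj M))) ≫
        (DTen.ε R).app (K ⊗ L, M) ≫ DerivedCategory.Q.map (α_ K L M).hom := by
  refine (congrArg ((DTen.associator _ _ _).hom ≫ ·) (DTen.assocR_fac R (K, L, M)).symm).trans ?_
  refine Eq.trans ?_ (DTen.assocL_fac R (K, L, M))
  rw [← Category.assoc]
  exact congrArg (· ≫ _)
    (DTen.associator_hom_assocR (DerivedCategory.Q.obj K) (DerivedCategory.Q.obj L) (DerivedCategory.Q.obj M))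

variable [DTen.HasLTen R'] [DTen.HasResTen φ] [DTen.ResLegIso φ] [DTen.HasLBase φ]

lemma assoc_pi_Q {P L : DRing.Cx R} (hP : IsKFlatFor (modT R) P) (hL : IsKFlatFor (modT R) L) :
    (DTen.associator (Y φ) (DerivedCategory.Q.obj P) (DerivedCategory.Q.obj L)).hom ≫
        pi φ ((DTen.LTen₂ R).obj (DerivedCategory.Q.obj P, DerivedCategory.Q.obj L)) ≫
          (DRing.restrictD φ).map (DTenBC.splitMap φ (DerivedCategory.Q.obj P) (DerivedCategory.Q.obj L)) =
      (DTen.LTen₂ R).map (Prod.mkHom (pi φ (DerivedCategory.Q.obj P)) ((DTen.baseAdj φ).unit.app (DerivedCategory.Q.obj L))) ≫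
        (DTen.resPF φ).app ((DTen.LBase φ).obj (DerivedCategory.Q.obj P), (DTen.LBase φ).obj (DerivedCategory.Q.obj L)) := by
  haveI := isIso_baseCmp φ hP
  haveI := isIso_baseCmp φ hL
  haveI := isIso_ε_of_left (L := (DTen.extCx φ).obj L) (isKFlatFor_ext φ hP)
  haveI : IsIso ((DTen.LTen₂ R').map (Prod.mkHom ((DTen.baseCmp φ).app P) ((DTen.baseCmp φ).app L))) :=
    isIso_LTen_map _ _
  let τ := (DRing.restrictD φ).map ((DTen.LTen₂ R').map (Prod.mkHom ((DTen.baseCmp φ).app P) ((DTen.baseCmp φ).app L))) ≫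
    (DRing.restrictD φ).map ((DTen.ε R').app ((DTen.extCx φ).obj P, (DTen.extCx φ).obj L)) ≫
      (DTen.resFactors φ).hom.app ((DTen.extCx φ).obj P ⊗ (DTen.extCx φ).obj L)
  refine (cancel_mono τ).1 ?_
  have hr := resPF_Q φ ((DTen.extCx φ).obj P) ((DTen.extCx φ).obj L) (𝟙 ((DTen.extCx φ).obj P ⊗ (DTen.extCx φ).obj L))
  rw [show (DTen.ε R').app ((DTen.extCx φ).obj P, (DTen.extCx φ).obj L) ≫
      DerivedCategory.Q.map (𝟙 ((DTen.extCx φ).obj P ⊗ (DTen.extCx φ).obj L)) =
      (DTen.ε R').app ((DTen.extCx φ).obj P, (DTen.extCx φ).obj L) from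
    (congrArg (_ ≫ ·) (DerivedCategory.Q.map_id _)).trans (Category.comp_id _),
    show DTen.resTenCx φ ((DTen.extCx φ).obj P) ((DTen.extCx φ).obj L) ≫
      (DTen.resCx φ).map (𝟙 ((DTen.extCx φ).obj P ⊗ (DTen.extCx φ).obj L)) =
      DTen.resTenCx φ ((DTen.extCx φ).obj P) ((DTen.extCx φ).obj L) from
    (congrArg (_ ≫ ·) ((DTen.resCx φ).map_id _)).trans (Category.comp_id _)] at hr
  have hs := congrArg (DRing.restrictD φ).map (DTenBC.splitMap_fac φ P L)
  simp only [Functor.map_comp] at hs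
  have hn := (DTen.resFactors φ).hom.naturality (DTenBC.extTensor φ P L).hom
  dsimp only [Functor.comp_map] at hn
  simp only [τ, Category.assoc]
  refine Eq.trans (congrArg (fun z => _ ≫ pi φ _ ≫ z) ((reassoc_of% hs) _)) ?_
  erw [hn]
  erw [← reassoc_of% (pi_natural φ ((DTen.ε R).app (P, L)))]
  erw [reassoc_of% (pi_Q φ (P ⊗ L))]
  rw [← Functor.map_comp DerivedCategory.Q]
  have hassoc := associator_natural (rS φ) (𝟙 (DerivedCategory.Q.obj P)) (𝟙 (DerivedCategory.Q.obj L))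
  rw [show (DTen.LTen₂ R).map (Prod.mkHom (𝟙 (DerivedCategory.Q.obj P)) (𝟙 (DerivedCategory.Q.obj L))) = 𝟙 _ from
    (DTen.LTen₂ R).map_id _] at hassoc
  have hlhs : (DTen.LTen₂ R).map (Prod.mkHom (𝟙 (Y φ)) ((DTen.ε R).app (P, L))) ≫
      (DTen.LTen₂ R).map (Prod.mkHom (rS φ) (𝟙 (DerivedCategory.Q.obj (P ⊗ L)))) =
      (DTen.LTen₂ R).map (Prod.mkHom (rS φ) (𝟙 _)) ≫
        (DTen.LTen₂ R).map (Prod.mkHom (𝟙 (DerivedCategory.Q.obj (S φ))) ((DTen.ε R).app (P, L))) := by
    rw [L2_comp, L2_comp]; simp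
  erw [reassoc_of% hlhs, ← reassoc_of% hassoc, reassoc_of% (assoc_ε (S φ) P L)]
  rw [← Functor.map_comp, assoc_mL, Functor.map_comp DerivedCategory.Q]
  erw [← reassoc_of% (resPF_natural φ ((DTen.baseCmp φ).app P) ((DTen.baseCmp φ).app L))]
  erw [hr]
  rw [← Category.assoc, ← Category.assoc, L2_comp]
  conv_rhs => rw [← Category.assoc, L2_comp, ← Category.assoc, L2_comp]
  simp only [Category.assoc, Category.id_comp, pi_Q φ P, unit_baseCmp φ L]
  erw [← reassoc_of% (ε_natural (mL φ P) ((DTen.unitCx φ).app L))]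
  rw [← Category.assoc, L2_comp]
  simp only [Category.assoc, Category.id_comp]

/-- Base change tensoring commutes with the derived splitting. -/
lemma assoc_pi (H X : Dual.D R) :
    (DTen.associator (Y φ) H X).hom ≫ pi φ ((DTen.LTen₂ R).obj (H, X)) ≫
        (DRing.restrictD φ).map (DTenBC.splitMap φ H X) =
      (DTen.LTen₂ R).map (Prod.mkHom (pi φ H) ((DTen.baseAdj φ).unit.app X)) ≫
        (DTen.resPF φ).app ((DTen.LBase φ).obj H, (DTen.LBase φ).obj X) := by
  obtain ⟨P, hP, ⟨e⟩⟩ := exists_kflat_obj H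
  obtain ⟨L, hL, ⟨f⟩⟩ := exists_kflat_obj X
  haveI : IsIso ((DTen.LTen₂ R).map (Prod.mkHom ((DTen.LTen₂ R).map (Prod.mkHom (𝟙 (Y φ)) e.hom)) f.hom)) := by
    haveI : IsIso ((DTen.LTen₂ R).map (Prod.mkHom (𝟙 (Y φ)) e.hom)) := isIso_LTen_map _ _
    exact isIso_LTen_map _ _
  refine (cancel_epi ((DTen.LTen₂ R).map (Prod.mkHom ((DTen.LTen₂ R).map (Prod.mkHom (𝟙 (Y φ)) e.hom)) f.hom))).1 ?_
  rw [reassoc_of% (associator_natural (𝟙 (Y φ)) e.hom f.hom), reassoc_of% (pi_natural φ ((DTen.LTen₂ R).map (Prod.mkHom e.hom f.hom))),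
    ← Functor.map_comp, DTenBC.splitMap_natural φ e.hom f.hom, Functor.map_comp, reassoc_of% (assoc_pi_Q φ hP hL),
    ← resPF_natural, ← Category.assoc, ← Category.assoc, L2_comp, L2_comp, pi_natural,
    show f.hom ≫ (DTen.baseAdj φ).unit.app X = (DTen.baseAdj φ).unit.app _ ≫ (DRing.restrictD φ).map ((DTen.LBase φ).map f.hom)
      from (DTen.baseAdj φ).unit.naturality f.hom]

variable [DTen.HasRHom R] [DTen.HasRHom R']

/-- The evaluation map at the algebra is base change of the internal hom. -/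
theorem pi_bc (K M : Dual.D R) :
    pi φ ((DTen.RHomR R K).obj M) ≫ (DRing.restrictD φ).map (DTenBC.bc φ K M) ≫
        DTen.rhomBC φ K ((DTen.LBase φ).obj M) =
      DTen.evalTen (Y φ) M K ≫ (DTen.RHomR R K).map (pi φ M) := by
  apply ((DTen.rhomAdj R K).homEquiv _ _).symm.injective
  rw [DTen.evalTen]
  erw [Adjunction.homEquiv_naturality_right_symm, Equiv.symm_apply_apply]
  rw [Adjunction.homEquiv_counit, Functor.map_comp, Functor.map_comp, Category.assoc, Category.assoc]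
  erw [DTen.rhomBC_fac]
  rw [DTen.rhomBCCore]
  erw [← Category.assoc ((DTen.LTen₂ R).map _), L2_comp, ← Category.assoc ((DTen.LTen₂ R).map _), L2_comp]
  simp only [Category.id_comp, Category.comp_id, Category.assoc]
  have h₁ : (DTen.LTen₂ R).map (Prod.mkHom (pi φ ((DTen.RHomR R K).obj M)) ((DTen.baseAdj φ).unit.app K)) ≫
      (DTen.LTen₂ R).map (Prod.mkHom ((DRing.restrictD φ).map (DTenBC.bc φ K M)) ((DRing.restrictD φ).map (𝟙 _))) =
      (DTen.LTen₂ R).map (Prod.mkHom (pi φ ((DTen.RHomR R K).obj M) ≫ (DRing.restrictD φ).map (DTenBC.bc φ K M))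
        ((DTen.baseAdj φ).unit.app K)) := by
    refine (L2_comp _ _ _ _).trans ?_
    rw [CategoryTheory.Functor.map_id]
    erw [Category.comp_id]
  erw [← h₁]
  rw [Category.assoc]
  erw [reassoc_of% (resPF_natural φ (DTenBC.bc φ K M) (𝟙 ((DTen.LBase φ).obj K)))]
  rw [← Functor.map_comp]
  erw [← reassoc_of% (assoc_pi φ ((DTen.RHomR R K).obj M) K)]
  rw [← Functor.map_comp]
  erw [DTenBC.bc_ev, ← pi_natural]
  rw [DTen.evalTenAux, Category.assoc]

/-- Base change of the internal hom is invertible iff the evaluation map is. -/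
theorem isIso_bc_iff (K M : Dual.D R) :
    IsIso (DTenBC.bc φ K M) ↔ IsIso (DTen.evalTen (Y φ) M K) := by
  haveI := isIso_pi φ ((DTen.RHomR R K).obj M)
  haveI := isIso_pi φ M
  haveI := DTenBC.isIso_rhomBC φ K ((DTen.LBase φ).obj M)
  refine ⟨fun h => ?_, fun h => ?_⟩
  · haveI : IsIso (DTen.evalTen (Y φ) M K ≫ (DTen.RHomR R K).map (pi φ M)) := by
      rw [← pi_bc]; infer_instance
    exact IsIso.of_isIso_comp_right _ ((DTen.RHomR R K).map (pi φ M))
  · haveI : IsIso (pi φ ((DTen.RHomR R K).obj M) ≫ (DRing.restrictD φ).map (DTenBC.bc φ K M) ≫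
        DTen.rhomBC φ K ((DTen.LBase φ).obj M)) := by
      rw [pi_bc]; infer_instance
    haveI : IsIso ((DRing.restrictD φ).map (DTenBC.bc φ K M) ≫ DTen.rhomBC φ K ((DTen.LBase φ).obj M)) :=
      IsIso.of_isIso_comp_left (pi φ ((DTen.RHomR R K).obj M)) _
    haveI : IsIso ((DRing.restrictD φ).map (DTenBC.bc φ K M)) :=
      IsIso.of_isIso_comp_right _ (DTen.rhomBC φ K ((DTen.LBase φ).obj M))
    exact DualLib.Omega.isIso_of_restrictD (φ := φ) _

end Groth.Agent.CohDer1.BcDual
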