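import Groth.Agent.CohDer1.BcDual.Rel
import Groth.Prelude.Def_TrivBC

/-! The action maps in a commutative square of rings. -/

set_option autoImplicit false
set_option backward.isDefEq.respectTransparency false
set_option backward.defeqAttrib.useBackward true
set_option linter.style.haveILetI false

universe u

open CategoryTheory CategoryTheory.Limits MonoidalCategory HomologicalComplex

attribute [local instance] HasDerivedCategory.standard

namespace Groth.Agent.CohDer1.BcDual

open Groth.Agent.DCat Groth.Agent.S7016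

variable {R A R' A' : Type u} [CommRing R] [CommRing A] [CommRing R'] [CommRing A']
  {φ : R →+* A} {ρ : R →+* R'} {α : A →+* A'} {φ' : R' →+* A'}

/-- The canonical commutation of restrictions on a complex. -/
noncomputable def cc (h : α.comp φ = φ'.comp ρ) (V : DRing.Cx A') :
    (DTen.resCx φ).obj ((DTen.resCx α).obj V) ⟶ (DTen.resCx ρ).obj ((DTen.resCx φ').obj V) where
  f i := (TrivBC.resCommMod h).hom.app (V.X i)
  comm' i j _ := ((TrivBC.resCommMod h).hom.naturality (V.d i j)).symm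

lemma cc_apply (h : α.comp φ = φ'.comp ρ) (V : DRing.Cx A') (i : ℤ) (x : V.X i) :
    ((cc h V).f i).hom (show ((DTen.resCx φ).obj ((DTen.resCx α).obj V)).X i from x) =
      (show ((DTen.resCx ρ).obj ((DTen.resCx φ').obj V)).X i from x) :=
  rfl

lemma resCommCx_app (h : α.comp φ = φ'.comp ρ) (V : DRing.Cx A') :
    (TrivBC.resCommCx h).hom.app V = DerivedCategory.Q.map (cc h V) := by
  simp [TrivBC.resCommCx]
  refine (DerivedCategory.Q.map_comp _ _).symm.trans
    (congrArg (DerivedCategory.Q (C := ModuleCat.{u} R)).map (HomologicalComplex.hom_ext _ _ fun i => rfl))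

/-- The commutation of restrictions on the image of a complex. -/
lemma rc_Q (h : α.comp φ = φ'.comp ρ) (V : DRing.Cx A') :
    (TrivBC.resComm h).hom.app (DerivedCategory.Q.obj V) ≫
        (DRing.restrictD ρ).map ((DTen.resFactors φ').hom.app V) ≫ (DTen.resFactors ρ).hom.app ((DTen.resCx φ').obj V) =
      (DRing.restrictD φ).map ((DTen.resFactors α).hom.app V) ≫ (DTen.resFactors φ).hom.app ((DTen.resCx α).obj V) ≫
        DerivedCategory.Q.map (cc h V) := by
  rw [← resCommCx_app]
  dsimp only [TrivBC.resComm, Localization.liftNatIso_hom]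
  rw [Localization.liftNatTrans_app]
  have e : ∀ {B C E : Type u} [CommRing B] [CommRing C] [CommRing E] (g : C →+* E) (f : B →+* C) (W : DRing.Cx E),
      (Localization.Lifting.iso (self := TrivBC.liftingRes₂ g f) _ _ _ _).hom.app W =
          (DRing.restrictD f).map ((DTen.resFactors g).hom.app W) ≫ (DTen.resFactors f).hom.app ((DTen.resCx g).obj W) ∧
        (Localization.Lifting.iso (self := TrivBC.liftingRes₂ g f) _ _ _ _).inv.app W =
          (DTen.resFactors f).inv.app ((DTen.resCx g).obj W) ≫ (DRing.restrictD f).map ((DTen.resFactors g).inv.app W) := by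
    intros
    constructor <;> (delta TrivBC.liftingRes₂; dsimp only; simp)
  change ((Localization.Lifting.iso (self := TrivBC.liftingRes₂ α φ) _ _ _ _).hom.app V ≫ _ ≫ (Localization.Lifting.iso (self := TrivBC.liftingRes₂ φ' ρ) _ _ _ _).inv.app V) ≫ _ = _
  rw [(e α φ V).1, (e φ' ρ V).2]
  simp only [Category.assoc]
  erw [← (DRing.restrictD ρ).map_comp_assoc, Iso.inv_hom_id_app, (DRing.restrictD ρ).map_id, Category.id_comp,
    Iso.inv_hom_id_app, Category.comp_id]

variable (α) in
/-- The algebra map as a map of complexes. -/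
noncomputable def ιCx : 𝟙_ (DRing.Cx A) ⟶ S α :=
  (DTen.unitCx α).app (𝟙_ (DRing.Cx A)) ≫ (DTen.resCx α).map
    ((HomologicalComplex.singleMapHomologicalComplex (ModuleCat.extendScalars.{u, u, u} α) (ComplexShape.up ℤ) 0).hom.app _ ≫
      (HomologicalComplex.single (ModuleCat.{u} A') (ComplexShape.up ℤ) 0).map
        (Functor.Monoidal.εIso (ModuleCat.extendScalars.{u, u, u} α)).inv)

variable (α) in
lemma scS_ιCx (v : ((𝟙_ (DRing.Cx A)).X 0 : ModuleCat.{u} A)) :
    scS α (((ιCx α).f 0).hom v) = α (sc v) := by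
  letI := α.toAlgebra
  have hf : ((HomologicalComplex.singleMapHomologicalComplex (ModuleCat.extendScalars.{u, u, u} α) (ComplexShape.up ℤ) 0).hom.app
        (𝟙_ (ModuleCat.{u} A)) ≫ (HomologicalComplex.single (ModuleCat.{u} A') (ComplexShape.up ℤ) 0).map
          (Functor.Monoidal.εIso (ModuleCat.extendScalars.{u, u, u} α)).inv).f 0 =
      (ModuleCat.extendScalars.{u, u, u} α).map (singleObjXSelf (ComplexShape.up ℤ) 0 (𝟙_ (ModuleCat.{u} A))).hom ≫
        (Functor.Monoidal.εIso (ModuleCat.extendScalars.{u, u, u} α)).inv ≫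
          (singleObjXSelf (ComplexShape.up ℤ) 0 (𝟙_ (ModuleCat.{u} A'))).inv := by
    rw [HomologicalComplex.comp_f, singleMapHomologicalComplex_hom_app_self, single_map_f_self]
    simp
  have h₁ : (singleObjXSelf (ComplexShape.up ℤ) 0 (𝟙_ (ModuleCat.{u} A'))).hom.hom
      ((singleObjXSelf (ComplexShape.up ℤ) 0 (𝟙_ (ModuleCat.{u} A'))).inv.hom
        (sc v • (1 : A'))) = sc v • (1 : A') :=
    congr($((singleObjXSelf (ComplexShape.up ℤ) 0 (𝟙_ (ModuleCat.{u} A'))).inv_hom_id) (sc v • (1 : A')))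
  refine Eq.trans ?_ ((Algebra.algebraMap_eq_smul_one (sc v)).symm)
  refine Eq.trans ?_ h₁
  exact congrArg (fun z => (singleObjXSelf (ComplexShape.up ℤ) 0 (𝟙_ (ModuleCat.{u} A'))).hom.hom z)
    (congr($hf ((1 : A') ⊗ₜ[A] v)))

variable (h : α.comp φ = φ'.comp ρ)

/-- The right actions commute with the change of rings, on complexes. -/
lemma μR_square (V : DRing.Cx A') :
    (cc h V ▷ S φ ≫ (DTen.resCx ρ).obj ((DTen.resCx φ').obj V) ◁ ((DTen.resCx φ).map (ιCx α) ≫ cc h (𝟙_ (DRing.Cx A')))) ≫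
        DTen.resTenCx ρ ((DTen.resCx φ').obj V) (S φ') ≫ (DTen.resCx ρ).map (μR φ' V) =
      μR φ ((DTen.resCx α).obj V) ≫ cc h V := by
  refine HomologicalComplex.hom_ext _ _ fun n => mapBifunctor.hom_ext fun p q hpq => ?_
  by_cases hq : q = 0
  swap
  · exact (((curriedTensor (ModuleCat.{u} R)).obj _).map_isZero (isZero_S φ q hq)).eq_of_src _ _
  subst hq
  obtain rfl : p = n := by simpa using hpq
  refine ModuleCat.MonoidalCategory.tensor_ext fun x v => ?_
  let g := (DTen.resCx φ).map (ιCx α) ≫ cc h (𝟙_ (DRing.Cx A'))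
  let w : ((S φ').X 0 : ModuleCat.{u} R') := ((ιCx α).f 0).hom v
  let W := (DTen.resCx ρ).obj ((DTen.resCx φ').obj V)
  let T := (DTen.resCx ρ).obj (S φ')
  have e₁ : ((cc h V ▷ S φ).f p).hom ((ιTensorObj ((DTen.resCx φ).obj ((DTen.resCx α).obj V)) (S φ) p 0 p hpq).hom (x ⊗ₜ[R] v)) =
      (ιTensorObj W (S φ) p 0 p hpq).hom ((show W.X p from x) ⊗ₜ[R] v) :=
    whiskerRight_apply (cc h V) (S φ) p 0 p hpq x v
  have e₂ : ((W ◁ g).f p).hom ((ιTensorObj W (S φ) p 0 p hpq).hom ((show W.X p from x) ⊗ₜ[R] v)) =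
      (ιTensorObj W T p 0 p hpq).hom ((show W.X p from x) ⊗ₜ[R] (show T.X 0 from w)) :=
    whiskerLeft_apply W g p 0 p hpq (show W.X p from x) v
  have e₃ : ((DTen.resTenCx ρ ((DTen.resCx φ').obj V) (S φ')).f p).hom
      ((ιTensorObj W T p 0 p hpq).hom ((show W.X p from x) ⊗ₜ[R] (show T.X 0 from w))) =
      (ιTensorObj ((DTen.resCx φ').obj V) (S φ') p 0 p hpq).hom ((show ((DTen.resCx φ').obj V).X p from x) ⊗ₜ[R'] w) :=
    resTenCx_apply ρ ((DTen.resCx φ').obj V) (S φ') p 0 p hpq x w
  refine Eq.trans (congrArg (fun z => (((DTen.resCx ρ).map (μR φ' V)).f p).hom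
    (((DTen.resTenCx ρ ((DTen.resCx φ').obj V) (S φ')).f p).hom (((W ◁ g).f p).hom z))) e₁) ?_
  refine Eq.trans (congrArg (fun z => (((DTen.resCx ρ).map (μR φ' V)).f p).hom
    (((DTen.resTenCx ρ ((DTen.resCx φ').obj V) (S φ')).f p).hom z)) e₂) ?_
  refine Eq.trans (congrArg (fun z => (((DTen.resCx ρ).map (μR φ' V)).f p).hom z) e₃) ?_
  refine Eq.trans (μR_apply φ' V p x w) ?_
  refine Eq.trans ?_ (congrArg (fun z => ((cc h V).f p).hom z) (μR_apply φ ((DTen.resCx α).obj V) p x v)).symm
  exact congrArg (fun c : A' => (show ((DTen.resCx ρ).obj ((DTen.resCx φ').obj V)).X p from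
    (c • (show V.X p from x) : V.X p))) (scS_ιCx α v)

end Groth.Agent.CohDer1.BcDual
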