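import Groth.Agent.CohDer1.BcDual.Rel

/-! The algebra as an object of the derived category of the base. -/

set_option autoImplicit false
set_option backward.isDefEq.respectTransparency false
set_option backward.defeqAttrib.useBackward true
set_option linter.style.haveILetI false

universe u

open CategoryTheory CategoryTheory.Limits MonoidalCategory HomologicalComplex

attribute [local instance] HasDerivedCategory.standard

namespace Groth.Agent.CohDer1.BcDual

/-- `res (unit R') ≅ R'[0]`. -/
noncomputable def YIso (R R' : Type u) [CommRing R] [CommRing R'] [Algebra R R'] :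
    Y (algebraMap R R') ≅ Dual.inD R R' :=
  (DRing.restrictD (algebraMap R R')).mapIso
      (((DerivedCategory.singleFunctorIsoCompQ (ModuleCat.{u} R') 0).app (𝟙_ (ModuleCat.{u} R'))).symm) ≪≫
    ((ModuleCat.restrictScalars.{u} (algebraMap R R')).mapDerivedCategorySingleFunctor 0).app _ ≪≫
    (DerivedCategory.singleFunctor (ModuleCat.{u} R) 0).mapIso
      (LinearEquiv.toModuleIso
        (X₁ := (ModuleCat.restrictScalars.{u} (algebraMap R R')).obj (𝟙_ (ModuleCat.{u} R'))) (X₂ := ModuleCat.of R R')
        { toFun := fun x => (x : R')
          invFun := fun x => x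
          map_add' := fun _ _ => rfl
          map_smul' := fun r x => (Algebra.smul_def r (show R' from x)).symm
          left_inv := fun _ => rfl
          right_inv := fun _ => rfl })

theorem isPerfect_Y (R R' : Type u) [CommRing R] [CommRing R'] [Algebra R R'] (h : DRing.IsPerfectModule R R') :
    DRing.IsPerfect R (Y (algebraMap R R')) := by
  obtain ⟨E, a, b, hv, hp, ⟨e⟩⟩ := h
  exact ⟨E, a, b, hv, hp, ⟨e ≪≫ (YIso R R').symm⟩⟩

/-- Base change of the internal hom along a perfect algebra is invertible. -/
theorem isIso_bc_of_perfect_algebra {R R' : Type u} [CommRing R] [CommRing R'] [Algebra R R'] [DTen.HasLTen R]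
    [DTen.HasLTen R'] [DTen.HasResTen (algebraMap R R')] [DTen.ResLegIso (algebraMap R R')]
    [DTen.HasLBase (algebraMap R R')] [DTen.HasRHom R] [DTen.HasRHom R'] (h : DRing.IsPerfectModule R R') (K M : Dual.D R) :
    IsIso (DCat.DTenBC.bc (algebraMap R R') K M) := by
  haveI := DCat.hasLTen₃ R
  haveI := DualLib.isSymMonoidal (A := R)
  exact (isIso_bc_iff (algebraMap R R') K M).2 (DCat.isIso_evalTen_K M K (isPerfect_Y R R' h))

end Groth.Agent.CohDer1.BcDual
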