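import Groth.Agent.CohDer1.BcDual.Square
import Groth.Agent.CohDer1.BcDual.Unit

/-! The base change map of trivial duality against base change of the internal hom. -/

set_option autoImplicit false
set_option backward.isDefEq.respectTransparency false
set_option backward.defeqAttrib.useBackward true
set_option linter.style.haveILetI false

universe u

open CategoryTheory CategoryTheory.Limits MonoidalCategory HomologicalComplex

attribute [local instance] HasDerivedCategory.standard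

namespace Groth.Agent.CohDer1.BcDual

open Groth.Agent.DCat

lemma L2_comp_assoc {R : Type u} [CommRing R] [DTen.HasLTen R] {a b c a' b' c' Z : Dual.D R} (f : a ⟶ b) (g : b ⟶ c)
    (f' : a' ⟶ b') (g' : b' ⟶ c') (k : (DTen.LTen₂ R).obj (c, c') ⟶ Z) :
    (DTen.LTen₂ R).map (Prod.mkHom f f') ≫ (DTen.LTen₂ R).map (Prod.mkHom g g') ≫ k =
      (DTen.LTen₂ R).map (Prod.mkHom (f ≫ g) (f' ≫ g')) ≫ k := by
  rw [← Category.assoc, L2_comp]

section RHom

variable {R A : Type u} [CommRing R] [CommRing A] (φ : R →+* A) [DTen.HasLTen R] [DTen.HasLTen A] [DTen.HasResTen φ]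
  [DTen.ResLegIso φ] [DTen.HasRHom R]

/-- `res (RHom(A, K)) ⟶ RHom_R(A, K)`. -/
noncomputable def eR {Rφ : Dual.D R ⥤ Dual.D A} (adj : DRing.restrictD φ ⊣ Rφ) (K : Dual.D R) :
    (DRing.restrictD φ).obj (Rφ.obj K) ⟶ (DTen.RHomR R (Y φ)).obj K :=
  (DTen.rhomAdj R (Y φ)).homEquiv _ _ (ract φ (Rφ.obj K) ≫ adj.counit.app K)

lemma eR_ev {Rφ : Dual.D R ⥤ Dual.D A} (adj : DRing.restrictD φ ⊣ Rφ) (K : Dual.D R) :
    (DTen.tensorRightD R (Y φ)).map (eR φ adj K) ≫ DTen.ev (Y φ) K = ract φ (Rφ.obj K) ≫ adj.counit.app K :=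
  ((DTen.rhomAdj R (Y φ)).homEquiv_counit _ _ _).symm.trans (Equiv.symm_apply_apply _ _)

theorem isIso_eR [DTen.HasLBase φ] {Rφ : Dual.D R ⥤ Dual.D A} (adj : DRing.restrictD φ ⊣ Rφ) (K : Dual.D R) :
    IsIso (eR φ adj K) := by
  rw [isIso_iff_yoneda_map_bijective]
  intro T
  haveI := isIso_theta φ T
  let e₁ := (DTen.baseAdj φ).homEquiv T (Rφ.obj K)
  let e₂ := (DTen.rhomAdj R (Y φ)).homEquiv T K
  let e₃ := adj.homEquiv ((DTen.LBase φ).obj T) K
  have key : ∀ g, e₂.symm (e₁ g ≫ eR φ adj K) = theta φ T ≫ e₃.symm g := by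
    intro g
    simp only [e₁, e₂, e₃, Adjunction.homEquiv_counit, Adjunction.homEquiv_unit]
    rw [Functor.map_comp, Category.assoc]
    erw [eR_ev]
    have n := ract_natural φ g
    rw [Functor.map_comp, Category.assoc]
    erw [reassoc_of% n]
    rw [theta, Category.assoc]
    rfl
  refine (Function.Bijective.of_comp_iff (f := fun x => x ≫ eR φ adj K) e₁.bijective).1 ?_
  refine (Function.Bijective.of_comp_iff' e₂.symm.bijective _).1 ?_
  have : Function.Bijective fun z : (DRing.restrictD φ).obj ((DTen.LBase φ).obj T) ⟶ K => theta φ T ≫ z :=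
    ⟨fun _ _ hz => (cancel_epi (theta φ T)).1 hz, fun z => ⟨inv (theta φ T) ≫ z, by simp⟩⟩
  convert this.comp e₃.symm.bijective using 1
  funext g
  exact key g

end RHom

section Square

variable {R A R' A' : Type u} [CommRing R] [CommRing A] [CommRing R'] [CommRing A']
  {φ : R →+* A} {ρ : R →+* R'} {α : A →+* A'} {φ' : R' →+* A'} (h : α.comp φ = φ'.comp ρ)

variable (α) in
/-- The algebra map in the derived category. -/
noncomputable def ιD : DTen.unit A ⟶ Y α :=
  DerivedCategory.Q.map (ιCx α) ≫ (DTen.resFactors α).inv.app (𝟙_ (DRing.Cx A'))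

variable (α) in
theorem isIso_u {Lα : Dual.D A ⥤ Dual.D A'} (adjα : Lα ⊣ DRing.restrictD α) :
    IsIso ((adjα.homEquiv (DTen.unit A) (DTen.unit A')).symm (ιD α)) := by
  haveI : DTen.HasLBase α := ⟨adjα.isRightAdjoint⟩
  haveI : DTen.HasLTen A := hasLTen A
  let e₁ := (HomologicalComplex.singleMapHomologicalComplex (ModuleCat.extendScalars.{u, u, u} α) (ComplexShape.up ℤ) 0).hom.app (𝟙_ (ModuleCat.{u} A)) ≫
      (HomologicalComplex.single (ModuleCat.{u} A') (ComplexShape.up ℤ) 0).map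
        (Functor.Monoidal.εIso (ModuleCat.extendScalars.{u, u, u} α)).inv
  haveI := isIso_baseCmp α (isKFlatFor_unitShift (A := A) 0)
  let w : (DTen.LBase α).obj (DTen.unit A) ⟶ DTen.unit A' :=
    (DTen.baseCmp α).app (𝟙_ (DRing.Cx A)) ≫ (DerivedCategory.Q (C := ModuleCat.{u} A')).map e₁
  haveI : IsIso e₁ := inferInstance
  haveI : IsIso w := @IsIso.comp_isIso _ _ _ _ _ _ _ ‹IsIso ((DTen.baseCmp α).app _)› inferInstance
  have hw : (DTen.baseAdj α).homEquiv _ _ w = ιD α := by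
    rw [Adjunction.homEquiv_unit, Functor.map_comp, ← Category.assoc]
    refine (congrArg (· ≫ _) (DTen.baseCmp_fac α _)).trans ?_
    change (DerivedCategory.Q.map ((DTen.unitCx α).app (𝟙_ (DRing.Cx A))) ≫
      (DTen.resFactors α).inv.app ((DTen.extCx α).obj (𝟙_ (DRing.Cx A)))) ≫ _ = _
    refine (Category.assoc _ _ _).trans ?_
    refine Eq.trans ?_ (congrArg (· ≫ (DTen.resFactors α).inv.app (𝟙_ (DRing.Cx A')))
      (DerivedCategory.Q.map_comp ((DTen.unitCx α).app (𝟙_ (DRing.Cx A))) ((DTen.resCx α).map e₁)).symm)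
    refine Eq.trans ?_ (Category.assoc _ _ _).symm
    exact congrArg (_ ≫ ·) ((DTen.resFactors α).inv.naturality e₁).symm
  have : (adjα.homEquiv (DTen.unit A) (DTen.unit A')).symm (ιD α) =
      (Adjunction.leftAdjointUniq adjα (DTen.baseAdj α)).hom.app _ ≫ w := by
    rw [Equiv.symm_apply_eq, Adjunction.homEquiv_naturality_right,
      Adjunction.homEquiv_leftAdjointUniq_hom_app, ← hw, Adjunction.homEquiv_unit]
  rw [this]
  infer_instance

variable [DTen.HasLTen R] [DTen.HasLTen A] [DTen.HasLTen R'] [DTen.HasLTen A']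
  [DTen.HasResTen φ] [DTen.ResLegIso φ] [DTen.HasResTen ρ] [DTen.ResLegIso ρ] [DTen.HasResTen φ'] [DTen.ResLegIso φ']

lemma ract_square_Q (V : DRing.Cx A') :
    (DTen.LTen₂ R).map (Prod.mkHom ((TrivBC.resComm h).hom.app (DerivedCategory.Q.obj V))
          ((DRing.restrictD φ).map (ιD α) ≫ (TrivBC.resComm h).hom.app (DTen.unit A'))) ≫
        (DTen.resPF ρ).app ((DRing.restrictD φ').obj (DerivedCategory.Q.obj V), Y φ') ≫
          (DRing.restrictD ρ).map (ract φ' (DerivedCategory.Q.obj V)) =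
      ract φ ((DRing.restrictD α).obj (DerivedCategory.Q.obj V)) ≫ (TrivBC.resComm h).hom.app (DerivedCategory.Q.obj V) := by
  refine (cancel_mono ((DRing.restrictD ρ).map ((DTen.resFactors φ').hom.app V) ≫
    (DTen.resFactors ρ).hom.app ((DTen.resCx φ').obj V))).1 ?_
  simp only [Category.assoc]
  rw [rc_Q h V]
  erw [← (DRing.restrictD ρ).map_comp_assoc, ract_Q φ' V]
  rw [Functor.map_comp, Category.assoc]
  erw [← reassoc_of% (resPF_natural ρ ((DTen.resFactors φ').hom.app V) (rS φ'))]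
  erw [resPF_Q ρ ((DTen.resCx φ').obj V) (S φ') (μR φ' V)]
  rw [← Category.assoc, L2_comp, ← Category.assoc, L2_comp, Category.assoc]
  simp only [Category.assoc, rS]
  erw [rc_Q h V, rc_Q h (𝟙_ (DRing.Cx A'))]
  have hι : (DRing.restrictD φ).map (ιD α) ≫ (DRing.restrictD φ).map ((DTen.resFactors α).hom.app (𝟙_ (DRing.Cx A'))) ≫
      (DTen.resFactors φ).hom.app (S α) ≫ DerivedCategory.Q.map (cc h (𝟙_ (DRing.Cx A'))) =
      rS φ ≫ DerivedCategory.Q.map ((DTen.resCx φ).map (ιCx α) ≫ cc h (𝟙_ (DRing.Cx A'))) := by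
    rw [← Functor.map_comp_assoc, ιD, Category.assoc]
    erw [Iso.inv_hom_id_app, Category.comp_id]
    have n := (DTen.resFactors φ).hom.naturality (ιCx α)
    dsimp only [Functor.comp_map] at n
    erw [reassoc_of% n, ← Functor.map_comp]
  erw [hι]
  erw [← reassoc_of% (ract_natural φ ((DTen.resFactors α).hom.app V))]
  erw [reassoc_of% (ract_Q φ ((DTen.resCx α).obj V))]
  rw [L2_comp_assoc, ← Functor.map_comp DerivedCategory.Q]
  simp only [Category.id_comp]
  rw [← μR_square h V, (DerivedCategory.Q (C := ModuleCat.{u} R)).map_comp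
    (cc h V ▷ S φ ≫ (DTen.resCx ρ).obj ((DTen.resCx φ').obj V) ◁ ((DTen.resCx φ).map (ιCx α) ≫ cc h (𝟙_ (DRing.Cx A'))))]
  erw [← reassoc_of% (ε_natural (cc h V) ((DTen.resCx φ).map (ιCx α) ≫ cc h (𝟙_ (DRing.Cx A'))))]
  erw [L2_comp_assoc]
  simp only [Category.assoc]

/-- The right actions commute with the change of rings. -/
lemma ract_square (W : Dual.D A') :
    (DTen.LTen₂ R).map (Prod.mkHom ((TrivBC.resComm h).hom.app W)
          ((DRing.restrictD φ).map (ιD α) ≫ (TrivBC.resComm h).hom.app (DTen.unit A'))) ≫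
        (DTen.resPF ρ).app ((DRing.restrictD φ').obj W, Y φ') ≫ (DRing.restrictD ρ).map (ract φ' W) =
      ract φ ((DRing.restrictD α).obj W) ≫ (TrivBC.resComm h).hom.app W := by
  let e := DerivedCategory.Q.objObjPreimageIso W
  let P := DerivedCategory.Q.objPreimage W
  haveI : IsIso ((DTen.LTen₂ R).map (Prod.mkHom ((DRing.restrictD φ).map ((DRing.restrictD α).map e.hom)) (𝟙 (Y φ)))) :=
    isIso_LTen_map _ _
  refine (cancel_epi ((DTen.LTen₂ R).map (Prod.mkHom ((DRing.restrictD φ).map ((DRing.restrictD α).map e.hom)) (𝟙 (Y φ))))).1 ?_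
  have hn := (TrivBC.resComm h).hom.naturality e.hom
  dsimp only [Functor.comp_map] at hn
  rw [reassoc_of% (ract_natural φ ((DRing.restrictD α).map e.hom)), hn, ← reassoc_of% (ract_square_Q h P),
    ← Functor.map_comp, ← ract_natural φ' e.hom, Functor.map_comp]
  erw [← reassoc_of% (resPF_natural ρ ((DRing.restrictD φ').map e.hom) (𝟙 (Y φ')))]
  erw [L2_comp_assoc]
  simp [hn, P]
  refine Eq.trans ?_ (L2_comp_assoc _ _ _ _ _).symm
  erw [Category.comp_id]

variable [DTen.HasLBase ρ] {Lα : Dual.D A ⥤ Dual.D A'} (adjα : Lα ⊣ DRing.restrictD α)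

/-- The comparison map, for the chosen base change functor. -/
noncomputable def cm (Z : Dual.D A) :
    (DTen.LBase ρ).obj ((DRing.restrictD φ).obj Z) ⟶ (DRing.restrictD φ').obj (Lα.obj Z) :=
  ((DTen.baseAdj ρ).homEquiv _ _).symm
    ((DRing.restrictD φ).map (adjα.unit.app Z) ≫ (TrivBC.resComm h).hom.app (Lα.obj Z))

/-- The comparison of the algebras. -/
noncomputable def cX : (DTen.LBase ρ).obj (Y φ) ⟶ Y φ' :=
  cm h adjα (DTen.unit A) ≫ (DRing.restrictD φ').map ((adjα.homEquiv (DTen.unit A) (DTen.unit A')).symm (ιD α))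

lemma unit_cm (Z : Dual.D A) :
    (DTen.baseAdj ρ).unit.app ((DRing.restrictD φ).obj Z) ≫ (DRing.restrictD ρ).map (cm h adjα Z) =
      (DRing.restrictD φ).map (adjα.unit.app Z) ≫ (TrivBC.resComm h).hom.app (Lα.obj Z) :=
  ((DTen.baseAdj ρ).homEquiv_unit _ _ _).symm.trans (Equiv.apply_symm_apply _ _)

lemma unit_cX :
    (DTen.baseAdj ρ).unit.app (Y φ) ≫ (DRing.restrictD ρ).map (cX h adjα) =
      (DRing.restrictD φ).map (ιD α) ≫ (TrivBC.resComm h).hom.app (DTen.unit A') := by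
  rw [cX, Functor.map_comp, ← Category.assoc]
  refine (congrArg (· ≫ _) (unit_cm h adjα (DTen.unit A))).trans ?_
  rw [Category.assoc]
  refine (congrArg (_ ≫ ·) ((TrivBC.resComm h).hom.naturality _).symm).trans ?_
  dsimp only [Functor.comp_map]
  rw [← Functor.map_comp_assoc]
  erw [← Adjunction.homEquiv_unit, Equiv.apply_symm_apply]

/-- The comparison map respects the actions. -/
lemma split_cm (Z : Dual.D A) :
    DTenBC.splitMap ρ ((DRing.restrictD φ).obj Z) (Y φ) ≫
        (DTen.LTen₂ R').map (Prod.mkHom (cm h adjα Z) (cX h adjα)) ≫ ract φ' (Lα.obj Z) =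
      (DTen.LBase ρ).map (ract φ Z) ≫ cm h adjα Z := by
  apply ((DTen.baseAdj ρ).homEquiv _ _).injective
  rw [Adjunction.homEquiv_naturality_right, Adjunction.homEquiv_naturality_left, DTenBC.homEquiv_splitMap,
    Adjunction.homEquiv_unit, unit_cm, DTenBC.laxMap, Functor.map_comp, Category.assoc]
  erw [← reassoc_of% (resPF_natural ρ (cm h adjα Z) (cX h adjα))]
  rw [← Category.assoc, L2_comp]
  erw [unit_cm, unit_cX]
  rw [← reassoc_of% (ract_natural φ (adjα.unit.app Z))]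
  erw [← ract_square h (Lα.obj Z)]
  erw [L2_comp_assoc]
  rw [Category.id_comp]

variable [DTen.HasRHom R] [DTen.HasRHom R'] {Rφ : Dual.D R ⥤ Dual.D A} (adj : DRing.restrictD φ ⊣ Rφ)
  {Rφ' : Dual.D R' ⥤ Dual.D A'} (adj' : DRing.restrictD φ' ⊣ Rφ') (K : Dual.D R)

/-- The base change map, for the chosen base change functor. -/
noncomputable def bM [IsIso (cm h adjα (Rφ.obj K))] : Lα.obj (Rφ.obj K) ⟶ Rφ'.obj ((DTen.LBase ρ).obj K) :=
  adj'.homEquiv _ _ (inv (cm h adjα (Rφ.obj K)) ≫ (DTen.LBase ρ).map (adj.counit.app K))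

/-- The base change map against base change of the internal hom. -/
theorem bM_bc [IsIso (cm h adjα (Rφ.obj K))] :
    cm h adjα (Rφ.obj K) ≫ (DRing.restrictD φ').map (bM h adjα adj adj' K) ≫ eR φ' adj' ((DTen.LBase ρ).obj K) ≫
        DTen.RHomMap (cX h adjα) ((DTen.LBase ρ).obj K) =
      (DTen.LBase ρ).map (eR φ adj K) ≫ DTenBC.bc ρ (Y φ) K := by
  apply ((DTen.rhomAdj R' ((DTen.LBase ρ).obj (Y φ))).homEquiv _ _).symm.injective
  rw [Adjunction.homEquiv_counit, Adjunction.homEquiv_counit]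
  simp only [Functor.map_comp, Category.assoc]
  haveI := DTenBC.isIso_splitMap ρ ((DRing.restrictD φ).obj (Rφ.obj K)) (Y φ)
  refine (cancel_epi (DTenBC.splitMap ρ ((DRing.restrictD φ).obj (Rφ.obj K)) (Y φ))).1 ?_
  have n₁ := DTenBC.splitMap_natural ρ (eR φ adj K) (𝟙 (Y φ))
  rw [CategoryTheory.Functor.map_id] at n₁
  erw [← reassoc_of% n₁, DTenBC.bc_ev, ← Functor.map_comp, eR_ev]
  rw [Functor.map_comp]
  have hev : (DTen.tensorRightD R' ((DTen.LBase ρ).obj (Y φ))).map (DTen.RHomMap (cX h adjα) ((DTen.LBase ρ).obj K)) ≫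
      DTen.ev ((DTen.LBase ρ).obj (Y φ)) ((DTen.LBase ρ).obj K) =
      (DTen.LTen₂ R').map (Prod.mkHom (𝟙 _) (cX h adjα)) ≫ DTen.ev (Y φ') ((DTen.LBase ρ).obj K) :=
    DTen.RHom_map_ev _ _
  erw [hev]
  rw [← Category.assoc ((DTen.tensorRightD R' _).map (eR φ' adj' _))]
  have hsw : (DTen.tensorRightD R' ((DTen.LBase ρ).obj (Y φ))).map (cm h adjα (Rφ.obj K)) ≫
      (DTen.tensorRightD R' ((DTen.LBase ρ).obj (Y φ))).map ((DRing.restrictD φ').map (bM h adjα adj adj' K)) ≫
        (DTen.tensorRightD R' ((DTen.LBase ρ).obj (Y φ))).map (eR φ' adj' ((DTen.LBase ρ).obj K)) ≫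
          (DTen.LTen₂ R').map (Prod.mkHom (𝟙 _) (cX h adjα)) =
      (DTen.LTen₂ R').map (Prod.mkHom (cm h adjα (Rφ.obj K)) (cX h adjα)) ≫
        (DTen.LTen₂ R').map (Prod.mkHom ((DRing.restrictD φ').map (bM h adjα adj adj' K)) (𝟙 (Y φ'))) ≫
          (DTen.LTen₂ R').map (Prod.mkHom (eR φ' adj' ((DTen.LBase ρ).obj K)) (𝟙 (Y φ'))) := by
    erw [L2_comp, L2_comp, L2_comp, L2_comp, L2_comp]
    simp
  simp only [Category.assoc]
  erw [reassoc_of% hsw, eR_ev φ' adj']
  rw [reassoc_of% (ract_natural φ' (bM h adjα adj adj' K))]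
  have hb : (DRing.restrictD φ').map (bM h adjα adj adj' K) ≫ adj'.counit.app ((DTen.LBase ρ).obj K) =
      inv (cm h adjα (Rφ.obj K)) ≫ (DTen.LBase ρ).map (adj.counit.app K) :=
    (adj'.homEquiv_counit _ _ _).symm.trans (Equiv.symm_apply_apply _ _)
  rw [hb, reassoc_of% (split_cm h adjα (Rφ.obj K)), IsIso.hom_inv_id_assoc]

end Square

end Groth.Agent.CohDer1.BcDual
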